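import Cfsg.Agent.Lib.Fus.M22U.TypeOf.Checks
import Cfsg.Agent.Lib.Fus.M22U.Points
import Cfsg.Agent.Lib.Spor.Cos.Fi22.Unit
import Cfsg.Agent.Lib.Spor.Cos.Fi22.IsSimple

/-! The presented Fischer group Fi22 is of type M(22). -/

set_option autoImplicit false
set_option linter.style.haveILetI false
set_option maxRecDepth 100000
set_option maxHeartbeats 2000000

open Cfsg.Agent.Spor.Cos

namespace Cfsg.Agent.Fus.M22U.TypeOf

open Cfsg

theorem dpt_equivariant (y : Spor.Fi22) (p : Fin Fi22.actB.N) : dpt (Fi22.piB y p) = y * dpt p * y⁻¹ := by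
  have h := (Fi22.trB p).choose_spec
  rw [dpt_eq (y := y * (Fi22.trB p).choose) (p := Fi22.piB y p) (by rw [map_mul, Equiv.Perm.mul_apply, h]),
    dpt, mul_inv_rev]
  group

theorem dpt_base : dpt Fi22.baseB = Fi22.g 0 := by
  rw [dpt_eq (y := 1) (by simp), tz_eq]
  group

/-- The point of the j-th common neighbour. -/
noncomputable def pt (j : Fin 126) : Fin Fi22.actB.N :=
  ⟨ptAt j, of_decide_eq_true (Bool.and_eq_true _ _ ▸ pts_ok j).1⟩

theorem pt_inj : Function.Injective pt := by
  intro j k h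
  have hj := pts_ok j
  have hk := pts_ok k
  simp only [Bool.and_eq_true, decide_eq_true_eq] at hj hk
  exact Fin.ext (by rw [← hj.2, ← hk.2, show ptAt j = ptAt k from congrArg Fin.val h])

theorem g_zero_one : ¬ Commute (Fi22.g 0) (Fi22.g 1) := by
  rw [← dpt_base]
  intro h
  have h1 := commute_dpt.1 h.symm
  have h2 := congrArg Fin.val h1
  rw [show Fi22.g 1 = ev Fi22.g [1] by simp [ev], Fi22.homB.apply_ev [1] (by decide)] at h2
  exact absurd h2 (by decide +kernel)

theorem dpt_pc : ∃ h : 14 < Fi22.actB.N, dpt ⟨14, h⟩ = Fi22.g 1 := by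
  have hl : ∀ s ∈ [0, 1], s < 9 := by decide
  have e : (Fi22.piB (ev Fi22.g [0, 1]) Fi22.baseB : ℕ) = 14 :=
    (Fi22.homB.apply_ev [0, 1] hl _).trans pc_ok
  refine ⟨e ▸ (Fi22.piB (ev Fi22.g [0, 1]) Fi22.baseB).isLt, ?_⟩
  rw [show (⟨14, _⟩ : Fin Fi22.actB.N) = Fi22.piB (ev Fi22.g [0, 1]) Fi22.baseB from Fin.ext e.symm,
    dpt_equivariant, dpt_base]
  have hw := Fi22.g_words [0, 1, 0, 1, 0, 1] (by decide +kernel)
  simp only [ev, mul_one] at hw ⊢
  set a := Fi22.g 0 with ha
  set b := Fi22.g 1 with hb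
  have ai : a⁻¹ = a := inv_eq_of_mul_eq_one_right (Fi22.g_sq 0)
  have bi : b⁻¹ = b := inv_eq_of_mul_eq_one_right (Fi22.g_sq 1)
  rw [mul_inv_rev, ai, bi]
  calc a * b * a * (b * a) = (a * (b * (a * (b * (a * b))))) * b⁻¹ := by group
    _ = b := by rw [hw, one_mul, bi]

theorem g_ne : ∀ i j : ℕ, i < 2 → j < 2 → i ≠ j → Fi22.g i ≠ Fi22.g j := by
  intro i j hi hj hij h
  have : Fi22.g 0 = Fi22.g 1 := by
    interval_cases i <;> interval_cases j <;> first | exact h | exact h.symm | omega
  exact g_zero_one (this ▸ Commute.refl _)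

/-- The transpositions commuting with the first. -/
def perp0 : Set Spor.Fi22 := {y | y ∈ classD ∧ y ≠ Fi22.g 0 ∧ Commute (Fi22.g 0) y}

/-- The transpositions commuting with the second. -/
def perp1 : Set Spor.Fi22 := {y | y ∈ classD ∧ y ≠ Fi22.g 1 ∧ Commute (Fi22.g 1) y}

theorem closure_perp0 : Subgroup.closure perp0 = Fi22.KH := by
  refine le_antisymm ((Subgroup.closure_le _).2 fun y hy => ?_) ?_
  · show y ∈ val Fi22.g Fi22.sh0W
    rw [← Fi22.centralizer_tz, Subgroup.mem_centralizer_singleton_iff, tz_eq]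
    exact hy.2.2.eq.symm
  · have hpos : ∀ s, 1 ≤ s → s < 9 → (Fi22.hK s : Spor.Fi22) ∈ Subgroup.closure perp0 := by
      intro s h1 hs
      refine Subgroup.subset_closure ⟨?_, ?_, ?_⟩
      · rw [Fi22.gen_eq_conj s h1 hs, tz_eq]
        exact _root_.isConj_iff.2 ⟨_, rfl⟩
      · rw [Fi22.hK_coe hs, ← tz_eq]
        intro h
        have e : ∀ p : Fin Fi22.actB.N, Fi22.piB (ev Fi22.g (Fi22.sh0W.getD s [])) p = Fi22.piB Fi22.tz p :=
          fun p => by rw [h]
        have hl : Act.lettersOk Fi22.actB.n Fi22.sh0W = true := by decide +kernel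
        have hw : Fi22.sh0W.getD s [] ∈ Fi22.sh0W := by interval_cases s <;> decide
        obtain ⟨b, hb, hne⟩ : ∃ b < 3510,
            Nat.beq (Fi22.actB.go (Fi22.sh0W.getD s []) b) (Fi22.actB.go [0] b) = false := by
          interval_cases s <;> exact ⟨14, by decide, by decide +kernel⟩
        have h' := congrArg Fin.val (e ⟨b, hb⟩)
        rw [Fi22.homB.apply_ev _ (Act.lt_of_lettersOk hl hw),
          show Fi22.tz = ev Fi22.g [0] from rfl, Fi22.homB.apply_ev [0] (by decide)] at h'
        rw [h', Nat.beq_refl] at hne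
        exact Bool.noConfusion hne
      · rw [← tz_eq]
        exact (Fi22.tz_comm _ (Fi22.hK s).2).symm
    have h0 : (Fi22.hK 0 : Spor.Fi22) ∈ Subgroup.closure perp0 := by
      have hz : ev Fi22.g (((List.replicate 9 [2, 3, 4, 5, 8, 7, 1]).flatten ++ [0]).map
          (fun s => Fi22.sh0W.getD s [])).flatten = 1 :=
        Fi22.eq_one_of_chk (by decide +kernel) (by decide +kernel)
      rw [List.map_append, List.flatten_append, ev_append] at hz
      have hin : ev Fi22.g ((List.replicate 9 [2, 3, 4, 5, 8, 7, 1]).flatten.map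
          (fun s => Fi22.sh0W.getD s [])).flatten ∈ Subgroup.closure perp0 := by
        have hl : ∀ t ∈ (List.replicate 9 [2, 3, 4, 5, 8, 7, 1]).flatten, 1 ≤ t ∧ t < 9 := by decide
        revert hl
        generalize (List.replicate 9 [2, 3, 4, 5, 8, 7, 1]).flatten = w
        intro hl
        induction w with
        | nil => simp [ev]
        | cons s w ih =>
          rw [List.map_cons, List.flatten_cons, ev_append, ← Fi22.hK_coe (hl s (by simp)).2]
          exact mul_mem (hpos s (hl s (by simp)).1 (hl s (by simp)).2)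
            (ih fun t ht => hl t (by simp [ht]))
      rw [Fi22.hK_coe (by decide)]
      simp only [List.map_cons, List.map_nil, List.flatten_cons, List.flatten_nil, List.append_nil] at hz
      rw [eq_inv_of_mul_eq_one_right hz]
      exact inv_mem hin
    show Fi22.KH ≤ _
    intro y hy
    have hmem : (⟨y, hy⟩ : Fi22.KH) ∈ Subgroup.closure {x | ∃ s, s < 9 ∧ Fi22.hK s = x} :=
      Fi22.hK_gen ▸ Subgroup.mem_top _
    refine (Subgroup.closure_le (K := (Subgroup.closure perp0).comap Fi22.KH.subtype)).2 ?_ hmem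
    rintro _ ⟨s, hs, rfl⟩
    rcases Nat.eq_zero_or_pos s with rfl | h1
    · exact h0
    · exact hpos s h1 hs

theorem common_eq : perp0 ∩ perp1 = Set.range fun j => dpt (pt j) := by
  obtain ⟨h14, e14⟩ := dpt_pc
  ext y
  constructor
  · rintro ⟨⟨hy, -, c0⟩, -, -, c1⟩
    rw [← range_dpt] at hy
    obtain ⟨p, rfl⟩ := hy
    have f : ∀ i < 2, Nat.beq (Fi22.actB.im p i) p = true := by
      intro i hi
      have hc : Commute (Fi22.g i) (dpt p) := by interval_cases i <;> assumption
      have h := congrArg Fin.val (commute_dpt.1 hc)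
      rw [show Fi22.g i = ev Fi22.g [i] by simp [ev],
        Fi22.homB.apply_ev [i] (by simp [show i < Fi22.actB.n from by interval_cases i <;> decide])] at h
      simp only [Act.go, force_eq] at h
      rw [h]
      exact Nat.beq_refl _
    have h := member_ok p p.2
    rw [f 0 (by decide), f 1 (by decide), Bool.and_self, Bool.not_true, Bool.false_or] at h
    have hm : (p : ℕ) ∈ pts := List.contains_iff_mem.1 h
    obtain ⟨j, hj, e⟩ := List.getElem_of_mem hm
    have hlen : pts.length = 126 := by decide +kernel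
    refine ⟨⟨j, hlen ▸ hj⟩, congrArg dpt (Fin.ext ?_)⟩
    show pts.getD j 0 = _
    rw [List.getD_eq_getElem _ _ hj, e]
  · rintro ⟨j, rfl⟩
    have h := fixed_ok j
    simp only [Bool.and_eq_true, Bool.not_eq_eq_eq_not, Bool.not_true] at h
    obtain ⟨⟨⟨h0, h1⟩, hn0⟩, hn1⟩ := h
    have cm : ∀ i : ℕ, (∀ s ∈ [i], s < Fi22.actB.n) → Nat.beq (Fi22.actB.go [i] (ptAt j)) (ptAt j) = true →
        Commute (Fi22.g i) (dpt (pt j)) := by
      intro i hi h
      refine commute_dpt.2 (Fin.ext ?_)
      rw [show Fi22.g i = ev Fi22.g [i] by simp [ev], Fi22.homB.apply_ev [i] hi]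
      exact Nat.eq_of_beq_eq_true h
    have hmem : dpt (pt j) ∈ classD := range_dpt ▸ ⟨_, rfl⟩
    refine ⟨⟨hmem, ?_, cm 0 (by decide) h0⟩, hmem, ?_, cm 1 (by decide) h1⟩
    · rw [← dpt_base]
      intro e
      have := congrArg Fin.val (dpt_injective e)
      rw [show (pt j : ℕ) = ptAt j from rfl] at this
      rw [this] at hn0
      exact Bool.noConfusion (hn0.symm.trans (Nat.beq_refl 0))
    · rw [← e14]
      intro e
      have := congrArg Fin.val (dpt_injective e)
      rw [show (pt j : ℕ) = ptAt j from rfl] at this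
      rw [this] at hn1
      exact Bool.noConfusion (hn1.symm.trans (Nat.beq_refl 14))

/-- The generating indices. -/
def base (i : Fin 6) : Fin 126 := ⟨(i : ℕ), by omega⟩

/-- The permutations of the generating transpositions. -/
def sig (i : Fin 6) : Equiv.Perm (Fin 126) :=
  Function.Involutive.toPerm (fun j => ⟨sigAt i j, sig_lt i j⟩) fun j => Fin.ext (sig_inv i j)

theorem derived : ∀ x, Derived base sig x :=
  derived_of_ok base sig baseAt sigAt (fun _ => rfl) (fun _ _ => rfl) der_ok

theorem group_side : Nonempty (↥(Subgroup.closure (perp0 ∩ perp1)) ⧸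
    Subgroup.center ↥(Subgroup.closure (perp0 ∩ perp1)) ≃* Subgroup.closure (Set.range sig)) := by
  let a : Fin 126 → ↥(Subgroup.closure (perp0 ∩ perp1)) := fun j =>
    ⟨dpt (pt j), Subgroup.subset_closure (common_eq ▸ ⟨j, rfl⟩)⟩
  refine nonempty_quot a (fun j k e => pt_inj (dpt_injective (congrArg Subtype.val e))) ?_ base sig ?_ derived
  · rw [← (Subgroup.map_injective (Subgroup.closure (perp0 ∩ perp1)).subtype_injective).eq_iff,
      MonoidHom.map_closure, ← Set.range_comp, ← MonoidHom.range_eq_map, Subgroup.range_subtype]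
    show Subgroup.closure (Set.range fun j => dpt (pt j)) = _
    rw [common_eq]
  · intro i j
    refine Subtype.ext ?_
    show dpt (pt (base i)) * dpt (pt j) * (dpt (pt (base i)))⁻¹ = dpt (pt (sig i j))
    have hw : ∀ s ∈ gword i, s < 9 := by
      intro s hs
      simp only [gword, List.mem_append, List.mem_reverse, List.mem_singleton] at hs
      rcases hs with (h | h) | h
      · exact gpath_lt i s h
      · omega
      · exact gpath_lt i s h
    have e : ev Fi22.g (gword i) = dpt (pt (base i)) := by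
      have hp : Fi22.piB (ev Fi22.g (gpath.getD i [])) Fi22.baseB = pt (base i) :=
        Fin.ext ((Fi22.homB.apply_ev _ (gpath_lt i) _).trans (gpath_ok i))
      rw [dpt_eq hp, gword, ev_append, ev_append, ev_reverse (fun t _ => Fi22.g_sq t) _ (gpath_lt i)]
      rfl
    rw [← e, ← dpt_equivariant]
    exact congrArg dpt (Fin.ext ((Fi22.homB.apply_ev _ hw _).trans (conj_ok i j)))

theorem refl_side : Nonempty (reflectionSubgroup (⇑(sqForm 6)) 1 ⧸
    Subgroup.center (reflectionSubgroup (⇑(sqForm 6)) 1) ≃* Subgroup.closure (Set.range sig)) := by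
  refine nonempty_refl_quot (sqForm 6) (by decide) (fun j : Fin 126 => cenAt j) norm_ok ?_ ?_ base sig ?_ derived
  · intro j k h
    have hj := inj_ok j
    have hk := inj_ok k
    refine Fin.ext ?_
    rcases h with h | h <;> rw [h] at hj <;> omega
  · intro u hu
    obtain ⟨c, hc, rfl⟩ := exists_code 6 u
    obtain ⟨h0, h1, h⟩ := all_ok ⟨c, hc⟩ hu
    have h1' : cenIx.getD c 0 ≤ 126 := h1
    have h0' : cenIx.getD c 0 ≠ 0 := h0
    exact ⟨⟨cenIx.getD c 0 - 1, by omega⟩, h⟩
  · intro i j
    rw [inv_one, one_smul, polar_sq]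
    exact refl_ok i j

theorem center_bot : Subgroup.center Spor.Fi22 = ⊥ := by
  haveI := Fi22.isSimple
  rcases (inferInstance : (Subgroup.center Spor.Fi22).Normal).eq_bot_or_eq_top with h | h
  · exact h
  · exact absurd (Subgroup.mem_center_iff.1 (h ▸ Subgroup.mem_top (Fi22.g 1)) (Fi22.g 0)) g_zero_one

theorem isOfTypeM22 : IsOfTypeM22 Spor.Fi22 classD := by
  refine ⟨center_bot, Fi22.g 0, mem_conjugatesOf_self, Fi22.g 1, g_mem_classD 1 (by decide), g_zero_one, ?_, ?_⟩
  · refine ⟨F4, inferInstance, inferInstance, F4.card_eq, ?_⟩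
    show Nonempty (↥(Subgroup.closure perp0) ⧸ Subgroup.center ↥(Subgroup.closure perp0) ≃* PSU 6 F4 2)
    rw [closure_perp0]
    exact Fi22.nonempty_quotient
  · refine ⟨1, by decide, sqForm 6, sq_nondeg 6, by rw [sq_gram]; decide, ?_⟩
    obtain ⟨f⟩ := refl_side
    obtain ⟨g⟩ := group_side
    exact ⟨g.trans f.symm⟩

end Cfsg.Agent.Fus.M22U.TypeOf
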