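import Cfsg.Agent.Lib.Fus.M22U.TypeOf.Quot
import Cfsg.Agent.Lib.Spor.ReflectionClassThree

/-! A projective reflection group over the field of three elements from a list of centres. -/

set_option autoImplicit false
set_option linter.style.haveILetI false

namespace Cfsg.Agent.Fus.M22U.TypeOf

open Matrix Cfsg

variable {n N : ℕ} {ι : Type*} (Q : QuadraticForm (ZMod 3) (Fin n → ZMod 3))

theorem three_scalar : ∀ t : ZMod 3, t = 0 ∨ t = 1 ∨ t = -1 := by decide

theorem nonempty_refl_quot {c : ZMod 3} (hc : c ≠ 0) (v : Fin N → Fin n → ZMod 3) (hv : ∀ j, Q (v j) = c)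
    (hinj : ∀ j k, (v j = v k ∨ v j = -v k) → j = k)
    (hall : ∀ u, Q u = c → ∃ j, u = v j ∨ u = -v j)
    (base : ι → Fin N) (σ : ι → Equiv.Perm (Fin N))
    (heq : ∀ i j, v j - c⁻¹ • QuadraticMap.polar (⇑Q) (v (base i)) (v j) • v (base i) = v (σ i j) ∨
      v j - c⁻¹ • QuadraticMap.polar (⇑Q) (v (base i)) (v j) • v (base i) = -v (σ i j))
    (hder : ∀ x, Derived base σ x) :
    Nonempty (reflectionSubgroup (⇑Q) c ⧸ Subgroup.center (reflectionSubgroup (⇑Q) c) ≃*
      Subgroup.closure (Set.range σ)) := by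
  classical
  have hv0 : ∀ j, Q (v j) ≠ 0 := fun j => (hv j).symm ▸ hc
  have mk : ∀ j, ∃ r : isometryGroup (ZMod 3) ⇑Q, r ∈ reflectionsOfNorm (⇑Q) c ∧
      ((r : GL (Fin n) (ZMod 3)) : Matrix (Fin n) (Fin n) (ZMod 3)) = reflectionMatrix ⇑Q (v j) := fun j =>
    ⟨Classical.mkIsometry (Q := ⇑Q) (reflectionMatrix ⇑Q (v j))
      (by rw [Classical.det_reflection Q (hv0 j)]; decide) (Classical.reflection_preserves Q (hv0 j)),
      ⟨v j, hv j, rfl⟩, rfl⟩
  choose r hr hm using mk
  have same : ∀ {u w : Fin n → ZMod 3}, (u = w ∨ u = -w) → reflectionMatrix ⇑Q u = reflectionMatrix ⇑Q w := by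
    rintro u w (rfl | rfl)
    · rfl
    · rw [← neg_one_smul (ZMod 3) w, Cfsg.Agent.Spor.ReflThree.reflection_smul Q (by decide)]
  have inj : Function.Injective r := by
    intro j k e
    have h := congrArg (fun M : Matrix (Fin n) (Fin n) (ZMod 3) => M *ᵥ v j)
      ((hm j).symm.trans ((congrArg (fun g : isometryGroup (ZMod 3) ⇑Q =>
        ((g : GL (Fin n) (ZMod 3)) : Matrix (Fin n) (Fin n) (ZMod 3))) e).trans (hm k)))
    simp only [Classical.reflectionMatrix_mulVec, QuadraticMap.polar_self, hv, two_nsmul] at h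
    have key : ∀ a b : ZMod 3, a ≠ 0 → b * a = 1 → b * (a + a) = -1 := by decide
    rw [key c c⁻¹ hc (inv_mul_cancel₀ hc)] at h
    obtain ⟨s, hs⟩ : ∃ s : ZMod 3, v j = s • v k :=
      ⟨-(c⁻¹ * QuadraticMap.polar (⇑Q) (v k) (v j)), funext fun i => by
        have hi := congrFun h i
        simp only [Pi.sub_apply, Pi.smul_apply, smul_eq_mul] at hi ⊢
        linear_combination hi⟩
    rcases three_scalar s with rfl | rfl | rfl
    · exact absurd (hv j) (by rw [hs, zero_smul, QuadraticMap.map_zero]; exact hc.symm)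
    · exact hinj j k (Or.inl (by simpa using hs))
    · exact hinj j k (Or.inr (by simpa using hs))
  let b : Fin N → reflectionSubgroup (⇑Q) c := fun j => ⟨r j, Subgroup.subset_closure (hr j)⟩
  refine nonempty_quot b (fun j k e => inj (congrArg Subtype.val e)) ?_ base σ ?_ hder
  · rw [← (Subgroup.map_injective (reflectionSubgroup (⇑Q) c).subtype_injective).eq_iff,
      MonoidHom.map_closure, ← Set.range_comp, ← MonoidHom.range_eq_map, Subgroup.range_subtype]
    show Subgroup.closure (Set.range r) = Subgroup.closure (reflectionsOfNorm (⇑Q) c)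
    congr 1
    ext g
    constructor
    · rintro ⟨j, rfl⟩
      exact hr j
    · rintro ⟨u, hu, hg⟩
      obtain ⟨j, hj⟩ := hall u hu
      exact ⟨j, Subtype.ext (Units.ext ((hm j).trans ((same hj).symm.trans hg.symm)))⟩
  · intro i j
    refine Subtype.ext (Subtype.ext (Units.ext ?_))
    show (((r (base i) * r j * (r (base i))⁻¹ : isometryGroup (ZMod 3) ⇑Q) : GL (Fin n) (ZMod 3)) :
      Matrix (Fin n) (Fin n) (ZMod 3)) = ((r (σ i j) : GL (Fin n) (ZMod 3)) : Matrix (Fin n) (Fin n) (ZMod 3))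
    rw [Cfsg.Agent.Spor.ReflThree.coe_conj (hm j), hm (σ i j), hm (base i), Classical.reflectionMatrix_mulVec,
      hv]
    exact same (by simpa only [smul_eq_mul, mul_smul] using heq i j)

end Cfsg.Agent.Fus.M22U.TypeOf
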