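import Cfsg.Agent.Lib.Fus.M22U.TypeOf.Refl

/-! Reflection groups over the field of three elements from tables of natural numbers. -/

set_option autoImplicit false

namespace Cfsg.Agent.Fus.M22U.TypeOf

open Cfsg

/-- The sum of squares. -/
def sqForm (n : ℕ) : QuadraticForm (ZMod 3) (Fin n → ZMod 3) :=
  QuadraticMap.weightedSumSquares (ZMod 3) fun _ : Fin n => (1 : ZMod 3)

theorem polar_sq {n : ℕ} (x y : Fin n → ZMod 3) :
    QuadraticMap.polar (⇑(sqForm n)) x y = 2 * (∑ i, x i * y i) := by
  simp only [QuadraticMap.polar, sqForm, QuadraticMap.weightedSumSquares_apply, Pi.add_apply, smul_eq_mul,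
    one_mul, Finset.mul_sum, ← Finset.sum_sub_distrib]
  exact Finset.sum_congr rfl fun i _ => by ring

theorem sq_nondeg (n : ℕ) : (QuadraticMap.polarBilin (sqForm n)).Nondegenerate := by
  have key : ∀ x : Fin n → ZMod 3, (∀ y, QuadraticMap.polar (⇑(sqForm n)) x y = 0) → x = 0 := by
    intro x h
    funext i
    have h' := h (Pi.single i 1)
    rw [polar_sq, Finset.sum_eq_single i (fun j _ hj => by simp [hj]) (by simp)] at h'
    simp only [Pi.single_eq_same, mul_one] at h'
    exact (mul_eq_zero.1 h').resolve_left (by decide)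
  exact ⟨fun x h => key x h, fun y h => key y fun x => by rw [QuadraticMap.polar_comm]; exact h x⟩

theorem sq_gram (n : ℕ) : polarGramDet (⇑(sqForm n)) = 2 ^ n := by
  unfold polarGramDet
  rw [show (Matrix.of fun i j : Fin n => QuadraticMap.polar (⇑(sqForm n)) (Pi.single i 1) (Pi.single j 1)) =
    Matrix.diagonal fun _ => (2 : ZMod 3) from Matrix.ext fun i j => ?_, Matrix.det_diagonal, Finset.prod_const,
    Finset.card_univ, Fintype.card_fin]
  rw [Matrix.of_apply, polar_sq, Finset.sum_eq_single i (fun k _ hk => by simp [hk]) (by simp)]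
  rcases eq_or_ne i j with rfl | hne
  · simp
  · simp [hne]

/-- The vector with given base three code. -/
def vecOf (n c : ℕ) : Fin n → ZMod 3 := fun i => ((c / 3 ^ (i : ℕ) % 3 : ℕ) : ZMod 3)

theorem exists_code : ∀ (n : ℕ) (v : Fin n → ZMod 3), ∃ c < 3 ^ n, vecOf n c = v
  | 0, v => ⟨0, by simp, funext fun i => i.elim0⟩
  | n + 1, v => by
    obtain ⟨c, hc, e⟩ := exists_code n fun i => v i.succ
    have h0 : (v 0).val < 3 := ZMod.val_lt _
    refine ⟨(v 0).val + 3 * c, by rw [pow_succ]; omega, funext fun i => ?_⟩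
    induction i using Fin.cases with
    | zero =>
      show (((v 0).val + 3 * c) / 3 ^ 0 % 3 : ℕ) = v 0
      rw [pow_zero, Nat.div_one, show ((v 0).val + 3 * c) % 3 = (v 0).val by omega, ZMod.natCast_zmod_val]
    | succ j =>
      rw [← congrFun e j]
      show ((((v 0).val + 3 * c) / 3 ^ (j.succ : ℕ) % 3 : ℕ) : ZMod 3) = ((c / 3 ^ (j : ℕ) % 3 : ℕ) : ZMod 3)
      rw [Fin.val_succ, pow_succ', ← Nat.div_div_eq_div_mul, show ((v 0).val + 3 * c) / 3 = c by omega]

/-- The derivation list is well formed: each index is a generator or the image of an earlier index. -/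
def derOk (k N : ℕ) (base : ℕ → ℕ) (s : ℕ → ℕ → ℕ) (par : List (ℕ × ℕ)) : Bool :=
  (List.range N).all fun x =>
    let p := par.getD x (0, 0)
    decide (p.1 < k) && bif decide (p.2 = x) then decide (base p.1 = x)
      else decide (p.2 < x) && decide (s p.1 p.2 = x)

theorem derived_of_ok {k N : ℕ} {par : List (ℕ × ℕ)} (base : Fin k → Fin N) (σ : Fin k → Equiv.Perm (Fin N))
    (b : ℕ → ℕ) (s : ℕ → ℕ → ℕ) (hb : ∀ i : Fin k, (base i : ℕ) = b i)
    (hs : ∀ (i : Fin k) (j : Fin N), (σ i j : ℕ) = s i j) (h : derOk k N b s par = true) :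
    ∀ x, Derived base σ x := by
  intro x S hbase hstep
  obtain ⟨x, hx⟩ := x
  induction x using Nat.strong_induction_on with
  | _ x ih =>
    have h' := List.all_eq_true.1 h x (List.mem_range.2 hx)
    simp only [Bool.and_eq_true, decide_eq_true_eq] at h'
    obtain ⟨hk, h2⟩ := h'
    by_cases he : (par.getD x (0, 0)).2 = x
    · rw [decide_eq_true he, Bool.cond_true, decide_eq_true_eq] at h2
      rw [show (⟨x, hx⟩ : Fin N) = base ⟨_, hk⟩ from Fin.ext (by rw [hb]; exact h2.symm)]
      exact hbase _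
    · rw [decide_eq_false he, Bool.cond_false, Bool.and_eq_true, decide_eq_true_eq, decide_eq_true_eq] at h2
      rw [show (⟨x, hx⟩ : Fin N) = σ ⟨_, hk⟩ ⟨_, h2.1.trans hx⟩ from Fin.ext (by rw [hs]; exact h2.2.symm)]
      exact hstep _ _ (ih _ h2.1 (h2.1.trans hx))

end Cfsg.Agent.Fus.M22U.TypeOf
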