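import Mathlib

/-! A group modulo its centre read off from the conjugation action on an indexed generating family. -/

set_option autoImplicit false

namespace Cfsg.Agent.Fus.M22U.TypeOf

variable {A : Type*} [Group A] {N : ℕ} {ι : Type*}

/-- The derivation list `der` reaches every index from the chosen ones. -/
def Derived (base : ι → Fin N) (σ : ι → Equiv.Perm (Fin N)) (x : Fin N) : Prop :=
  ∀ S : Set (Fin N), (∀ i, base i ∈ S) → (∀ i, ∀ y ∈ S, σ i y ∈ S) → x ∈ S

theorem nonempty_quot (a : Fin N → A) (ha : Function.Injective a) (hgen : Subgroup.closure (Set.range a) = ⊤)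
    (base : ι → Fin N) (σ : ι → Equiv.Perm (Fin N))
    (heq : ∀ i j, a (base i) * a j * (a (base i))⁻¹ = a (σ i j)) (hder : ∀ x, Derived base σ x) :
    Nonempty (A ⧸ Subgroup.center A ≃* Subgroup.closure (Set.range σ)) := by
  classical
  have htop : Subgroup.closure (Set.range fun i => a (base i)) = ⊤ := by
    rw [eq_top_iff, ← hgen, Subgroup.closure_le]
    rintro _ ⟨x, rfl⟩
    refine hder x {y | a y ∈ Subgroup.closure (Set.range fun i => a (base i))} (fun i => ?_) fun i y hy => ?_
    · exact Subgroup.subset_closure ⟨i, rfl⟩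
    · show a (σ i y) ∈ Subgroup.closure (Set.range fun k => a (base k))
      rw [← heq]
      exact mul_mem (mul_mem (Subgroup.subset_closure ⟨i, rfl⟩) hy)
        (inv_mem (Subgroup.subset_closure ⟨i, rfl⟩))
  have ex : ∀ g : A, ∃ π : Equiv.Perm (Fin N), ∀ j, g * a j * g⁻¹ = a (π j) := by
    intro g
    have hg : g ∈ Subgroup.closure (Set.range fun i => a (base i)) := htop ▸ Subgroup.mem_top g
    induction hg using Subgroup.closure_induction with
    | mem x hx => obtain ⟨i, rfl⟩ := hx; exact ⟨σ i, heq i⟩
    | one => exact ⟨1, fun j => by simp⟩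
    | mul x y _ _ hx hy =>
      obtain ⟨p, hp⟩ := hx
      obtain ⟨q, hq⟩ := hy
      exact ⟨p * q, fun j => by rw [Equiv.Perm.mul_apply, ← hp, ← hq]; group⟩
    | inv x _ hx =>
      obtain ⟨p, hp⟩ := hx
      refine ⟨p⁻¹, fun j => ?_⟩
      have := hp (p⁻¹ j)
      rw [Equiv.Perm.coe_inv, Equiv.apply_symm_apply] at this
      rw [Equiv.Perm.coe_inv, ← this]
      group
  choose π hπ using ex
  have uniq : ∀ (g : A) (τ : Equiv.Perm (Fin N)), (∀ j, g * a j * g⁻¹ = a (τ j)) → π g = τ :=
    fun g τ h => Equiv.ext fun j => ha ((hπ g j).symm.trans (h j))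
  let f : A →* Equiv.Perm (Fin N) :=
    { toFun := π
      map_one' := uniq 1 1 fun j => by simp
      map_mul' := fun x y => uniq _ _ fun j => by
        rw [Equiv.Perm.mul_apply, ← hπ, ← hπ]; group }
  have hker : f.ker = Subgroup.center A := by
    ext g
    rw [MonoidHom.mem_ker, Subgroup.mem_center_iff]
    constructor
    · intro h u
      have hu : u ∈ Subgroup.closure (Set.range a) := hgen ▸ Subgroup.mem_top u
      have hle : Subgroup.closure (Set.range a) ≤ Subgroup.centralizer {g} := by
        rw [Subgroup.closure_le]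
        rintro _ ⟨j, rfl⟩
        refine Subgroup.mem_centralizer_singleton_iff.2 ?_
        have hj := hπ g j
        rw [show π g = 1 from h, Equiv.Perm.one_apply, mul_inv_eq_iff_eq_mul] at hj
        exact hj.symm
      exact Subgroup.mem_centralizer_singleton_iff.1 (hle hu)
    · intro h
      exact uniq g 1 fun j => by rw [Equiv.Perm.one_apply, ← h (a j), mul_inv_cancel_right]
  have hrange : f.range = Subgroup.closure (Set.range σ) := by
    rw [MonoidHom.range_eq_map, ← htop, MonoidHom.map_closure, ← Set.range_comp]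
    congr 1
    refine congrArg Set.range (funext fun i => ?_)
    exact uniq _ _ (heq i)
  exact ⟨((QuotientGroup.quotientMulEquivOfEq hker.symm).trans (QuotientGroup.quotientKerEquivRange f)).trans
    (MulEquiv.subgroupCongr hrange)⟩

end Cfsg.Agent.Fus.M22U.TypeOf
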